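import Groth.Agent.UnivThickLib.Affine
import Mathlib.AlgebraicGeometry.Morphisms.Preimmersion
import Mathlib.AlgebraicGeometry.RelativeGluing

/-!
# Existence of universal first order thickenings
-/

set_option autoImplicit false
set_option linter.style.haveILetI false
set_option backward.isDefEq.respectTransparency false
universe u

noncomputable section

open CategoryTheory Limits AlgebraicGeometry TopologicalSpace

namespace UnivThickLib

variable {Z X : Scheme.{u}} (h : Z ⟶ X)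

/-- affine opens mapping into an affine open -/
abbrev SmallOpen : Type u := {V : Z.affineOpens // ∃ U : X.affineOpens, V.1 ≤ h ⁻¹ᵁ U.1}

theorem isBasis_small : Opens.IsBasis (Set.range fun s : SmallOpen h => s.1.1) := by
  rw [Opens.isBasis_iff_nbhd]
  intro O z hz
  obtain ⟨U, hU, hzU, -⟩ := exists_isAffineOpen_mem_and_subset (X := X) (x := h z) (U := ⊤) trivial
  obtain ⟨V, hV, hzV, hVO⟩ := exists_isAffineOpen_mem_and_subset (X := Z) (x := z) (U := O ⊓ h ⁻¹ᵁ U) ⟨hz, hzU⟩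
  exact ⟨V, ⟨⟨⟨V, hV⟩, ⟨U, hU⟩, fun y hy => (hVO hy).2⟩, rfl⟩, hzV, fun y hy => (hVO hy).1⟩

/-- the open of the target corresponding to an open of the source of a thickening -/
def imgOpen {T T' : Scheme.{u}} (j : T ⟶ T') [IsClosedImmersion j] (R : T.Opens) : T'.Opens :=
  ⟨(j '' (R : Set T)ᶜ)ᶜ, (j.isClosedEmbedding.isClosedMap _ R.2.isClosed_compl).isOpen_compl⟩

theorem preimage_imgOpen {T T' : Scheme.{u}} (j : T ⟶ T') [IsClosedImmersion j] (R : T.Opens) :
    j ⁻¹ᵁ imgOpen j R = R := by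
  ext t
  show j t ∈ (j '' (R : Set T)ᶜ)ᶜ ↔ t ∈ (R : Set T)
  rw [Set.mem_compl_iff, j.isClosedEmbedding.injective.mem_set_image, Set.mem_compl_iff, not_not]

theorem uniqueLift_ext {T T' Z' Z₀ X₀ : Scheme.{u}} {i : Z₀ ⟶ Z'} {h₀ : Z₀ ⟶ X₀} {h' : Z' ⟶ X₀}
    (hu : OmegaSh.IsUnivThickening h₀ i h') (j : T ⟶ T') (hj : MoreMor.IsFirstOrderThickening j) (b : T' ⟶ X₀)
    (a : T ⟶ Z₀) (hab : j ≫ b = a ≫ h₀) {c c' : T' ⟶ Z'} (h1 : j ≫ c = a ≫ i) (h2 : c ≫ h' = b)
    (h3 : j ≫ c' = a ≫ i) (h4 : c' ≫ h' = b) : c = c' :=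
  (hu.2.2 T T' j b a hj hab).unique ⟨h1, h2⟩ ⟨h3, h4⟩

theorem exists_univ [FormallyUnramified h] :
    ∃ (Z' : Scheme.{u}) (i : Z ⟶ Z') (h' : Z' ⟶ X), OmegaSh.IsUnivThickening h i h' := by
  have hloc : ∀ s : SmallOpen h, ∃ (M : Scheme.{u}) (i : (s.1.1 : Scheme.{u}) ⟶ M) (hp : M ⟶ X),
      OmegaSh.IsUnivThickening (s.1.1.ι ≫ h) i hp := by
    intro s
    obtain ⟨⟨U, hU⟩, hle⟩ := s.2
    haveI : IsAffine (s.1.1 : Scheme.{u}) := s.1.2
    haveI : FormallyUnramified (s.1.1.ι ≫ h) := MorphismProperty.comp_mem _ _ _ inferInstance ‹FormallyUnramified h›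
    exact exists_univ_affine (s.1.1.ι ≫ h) hU (fun y _ => hle y.2)
  choose M iM hM hu using hloc
  have hci : ∀ s, IsClosedImmersion (iM s) := fun s => (hu s).1.1.1
  have hsu : ∀ s, Surjective (iM s) := fun s => (hu s).1.1.2
  have hcomp : ∀ s, iM s ≫ hM s = s.1.1.ι ≫ h := fun s => (hu s).2.1
  -- transition maps
  have hex : ∀ {s t : SmallOpen h} (hst : s ≤ t), ∃ v : M s ⟶ M t,
      iM s ≫ v = Z.homOfLE hst ≫ iM t ∧ v ≫ hM t = hM s := by
    intro s t hst
    obtain ⟨v, hv, -⟩ := (hu t).2.2 _ _ (iM s) (hM s) (Z.homOfLE hst) (hu s).1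
      (by rw [hcomp, ← Category.assoc, Scheme.homOfLE_ι])
    exact ⟨v, hv⟩
  choose v hv1 hv2 using @hex
  have hv_uniq : ∀ {s t : SmallOpen h} (hst : s ≤ t) (c : M s ⟶ M t),
      iM s ≫ c = Z.homOfLE hst ≫ iM t → c ≫ hM t = hM s → c = v hst := fun {s t} hst c h1 h2 =>
    uniqueLift_ext (hu t) (iM s) (hu s).1 (hM s) (Z.homOfLE hst)
      (by rw [hcomp, ← Category.assoc, Scheme.homOfLE_ι]) h1 h2 (hv1 hst) (hv2 hst)
  let F : SmallOpen h ⥤ Scheme.{u} :=
    { obj := M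
      map := fun f => v f.le
      map_id := fun s => (hv_uniq _ _ (by simp) (Category.id_comp _)).symm
      map_comp := fun {a b c} f g => (hv_uniq _ _
        (by rw [← Category.assoc, hv1, Category.assoc, hv1, ← Category.assoc, Scheme.homOfLE_homOfLE])
        (by rw [Category.assoc, hv2, hv2])).symm }
  haveI hoi : ∀ {s t : SmallOpen h} (f : s ⟶ t), IsOpenImmersion (F.map f) := by
    intro s t f
    show IsOpenImmersion (v f.le)
    haveI := hci t
    haveI := hsu s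
    let O := imgOpen (iM t) (Z.homOfLE f.le).opensRange
    have hOpre : (iM t) ⁻¹ᵁ O = (Z.homOfLE f.le).opensRange := preimage_imgOpen _ _
    have hr : Set.range (v f.le) ⊆ Set.range O.ι := by
      rintro _ ⟨y, rfl⟩
      obtain ⟨z, rfl⟩ := (hsu s).surj y
      rw [Scheme.Opens.range_ι, ← Scheme.Hom.comp_apply, hv1, Scheme.Hom.comp_apply]
      show Z.homOfLE f.le z ∈ (iM t) ⁻¹ᵁ O
      rw [hOpre]
      exact ⟨z, rfl⟩
    let v' := IsOpenImmersion.lift O.ι (v f.le) hr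
    have hv' : v' ≫ O.ι = v f.le := IsOpenImmersion.lift_fac _ _ _
    let a := IsOpenImmersion.lift (Z.homOfLE f.le) ((iM t) ⁻¹ᵁ O).ι (by
      rw [Scheme.Opens.range_ι, hOpre]; exact subset_rfl)
    have ha : a ≫ Z.homOfLE f.le = ((iM t) ⁻¹ᵁ O).ι := IsOpenImmersion.lift_fac _ _ _
    let a' := IsOpenImmersion.lift ((iM t) ⁻¹ᵁ O).ι (Z.homOfLE f.le) (by
      rw [Scheme.Opens.range_ι, hOpre]; exact subset_rfl)
    have ha' : a' ≫ ((iM t) ⁻¹ᵁ O).ι = Z.homOfLE f.le := IsOpenImmersion.lift_fac _ _ _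
    have haa : a' ≫ a = 𝟙 _ := by rw [← cancel_mono (Z.homOfLE f.le), Category.assoc, ha, ha', Category.id_comp]
    obtain ⟨w, ⟨hw1, hw2⟩, -⟩ := (hu s).2.2 _ _ ((iM t) ∣_ O) (O.ι ≫ hM t) a (fo_restrict (hu t).1 O) (by
      rw [← Category.assoc, morphismRestrict_ι, Category.assoc, hcomp, ← Scheme.homOfLE_ι Z f.le, ← ha]
      simp only [Category.assoc])
    have hwv : w ≫ v f.le = O.ι := uniqueLift_ext (hu t) ((iM t) ∣_ O) (fo_restrict (hu t).1 O) (O.ι ≫ hM t)
      ((iM t) ⁻¹ᵁ O).ι (by rw [← Category.assoc, morphismRestrict_ι, Category.assoc, hcomp])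
      (by rw [← Category.assoc, hw1, Category.assoc, hv1, ← Category.assoc, ha])
      (by rw [Category.assoc, hv2, hw2]) (morphismRestrict_ι _ _) rfl
    have h1 : iM s ≫ v' = a' ≫ ((iM t) ∣_ O) := by
      rw [← cancel_mono O.ι, Category.assoc, hv', hv1, Category.assoc, morphismRestrict_ι, ← Category.assoc, ha']
    haveI : IsIso v' := by
      refine ⟨w, ?_, ?_⟩
      · refine uniqueLift_ext (hu s) (iM s) (hu s).1 (hM s) (𝟙 _) (by rw [hcomp, Category.id_comp]) ?_ ?_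
          (by rw [Category.comp_id, Category.id_comp]) (Category.id_comp _)
        · rw [← Category.assoc, h1, Category.assoc, hw1, ← Category.assoc, haa]
        · rw [Category.assoc, hw2, ← Category.assoc, hv', hv2]
      · rw [← cancel_mono O.ι, Category.assoc, hv', hwv, Category.id_comp]
    rw [← hv']
    infer_instance
  have hpt : ∀ {s t : SmallOpen h} (f : s ⟶ t) (z : (s.1.1 : Scheme.{u})),
      F.map f (iM s z) = iM t (Z.homOfLE f.le z) := fun f z => by
    show v f.le _ = _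
    rw [← Scheme.Hom.comp_apply, hv1, Scheme.Hom.comp_apply]
  haveI : (F ⋙ Scheme.forget).IsLocallyDirected := ⟨fun {a b c} fa fb xa xb hx => by
    obtain ⟨za, rfl⟩ := (hsu a).surj xa
    obtain ⟨zb, rfl⟩ := (hsu b).surj xb
    haveI := hci c
    have hz : Z.homOfLE fa.le za = Z.homOfLE fb.le zb :=
      (iM c).isClosedEmbedding.injective ((hpt fa za).symm.trans (hx.trans (hpt fb zb)))
    have hz' : za.1 = zb.1 := by
      have := congrArg c.1.1.ι hz
      rwa [← Scheme.Hom.comp_apply, ← Scheme.Hom.comp_apply, Scheme.homOfLE_ι, Scheme.homOfLE_ι] at this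
    obtain ⟨_, ⟨l, rfl⟩, hzl, hl⟩ := Opens.isBasis_iff_nbhd.mp (isBasis_small h)
      (show za.1 ∈ a.1.1 ⊓ b.1.1 from ⟨za.2, hz' ▸ zb.2⟩)
    refine ⟨l, homOfLE (hl.trans inf_le_left), homOfLE (hl.trans inf_le_right), iM l ⟨za.1, hzl⟩, ?_, ?_⟩
    · exact (hpt (homOfLE _) _).trans (congrArg (iM a) (Subtype.ext (Scheme.homOfLE_apply _ _)))
    · exact (hpt (homOfLE _) _).trans (congrArg (iM b) (Subtype.ext ((Scheme.homOfLE_apply _ _).trans hz')))⟩
  -- the cover of the source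
  let 𝒰 : Z.OpenCover :=
    { I₀ := SmallOpen h
      X := fun s => s.1.1
      f := fun s => s.1.1.ι
      mem₀ := by
        rw [Scheme.presieve₀_mem_precoverage_iff]
        refine ⟨fun x => ?_, fun s => inferInstance⟩
        obtain ⟨_, ⟨s, rfl⟩, hx, -⟩ := Opens.isBasis_iff_nbhd.mp (isBasis_small h) (show x ∈ (⊤ : Z.Opens) from trivial)
        exact ⟨s, ⟨x, hx⟩, rfl⟩ }
  letI : Preorder 𝒰.I₀ := inferInstanceAs (Preorder (SmallOpen h))
  letI : 𝒰.LocallyDirected := Scheme.Cover.LocallyDirected.ofIsBasisOpensRange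
    (fun {O O'} => by
      show O.1.1 ≤ O'.1.1 ↔ O.1.1.ι.opensRange ≤ O'.1.1.ι.opensRange
      rw [Scheme.Opens.opensRange_ι, Scheme.Opens.opensRange_ι])
    (by
      convert isBasis_small h using 1
      ext O
      simp only [Set.mem_range]
      exact exists_congr fun s => by
        show s.1.1.ι.opensRange = O ↔ _
        rw [Scheme.Opens.opensRange_ι])
  have hcompat : ∀ {s t : 𝒰.I₀} (f : s ⟶ t), 𝒰.trans f ≫ (iM t ≫ colimit.ι F t) = iM s ≫ colimit.ι F s := by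
    intro s t f
    have ht : 𝒰.trans f = Z.homOfLE (show s.1.1 ≤ t.1.1 from leOfHom f) := by
      rw [← cancel_mono t.1.1.ι, Scheme.homOfLE_ι]
      exact Scheme.Cover.trans_map 𝒰 f
    rw [ht, ← Category.assoc]
    refine Eq.trans ?_ (congrArg (iM s ≫ ·) (colimit.w F (homOfLE (show s ≤ t from leOfHom f))))
    rw [← Category.assoc]
    exact (congrArg (· ≫ _) (hv1 _)).symm
  let i : Z ⟶ colimit F := 𝒰.glueMorphismsOfLocallyDirected (fun s => iM s ≫ colimit.ι F s) hcompat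
  have hi : ∀ s : SmallOpen h, s.1.1.ι ≫ i = iM s ≫ colimit.ι F s :=
    fun s => 𝒰.map_glueMorphismsOfLocallyDirected (fun s => iM s ≫ colimit.ι F s) hcompat s
  have hi' : ∀ (s : SmallOpen h) (z : (s.1.1 : Scheme.{u})), i z.1 = colimit.ι F s (iM s z) := fun s z => by
    rw [show z.1 = s.1.1.ι z from rfl, ← Scheme.Hom.comp_apply, hi, Scheme.Hom.comp_apply]
  let h' : colimit F ⟶ X := colimit.desc F
    { pt := X, ι := { app := hM, naturality := fun s t f => (hv2 f.le).trans (Category.comp_id _).symm } }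
  have hh' : ∀ s, colimit.ι F s ≫ h' = hM s := fun s => colimit.ι_desc _ _
  have hih : i ≫ h' = h := by
    refine 𝒰.hom_ext _ _ fun s => ?_
    show s.1.1.ι ≫ i ≫ h' = s.1.1.ι ≫ h
    rw [← Category.assoc, hi, Category.assoc, hh', hcomp]
  -- `i` is a homeomorphism
  have hsmall : ∀ z : Z, ∃ s : SmallOpen h, z ∈ s.1.1 := fun z => by
    obtain ⟨_, ⟨s, rfl⟩, hx, -⟩ := Opens.isBasis_iff_nbhd.mp (isBasis_small h) (show z ∈ (⊤ : Z.Opens) from trivial)
    exact ⟨s, hx⟩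
  have hsurj : Function.Surjective i := fun x => by
    obtain ⟨s, y, rfl⟩ := Scheme.IsLocallyDirected.ι_jointly_surjective F x
    obtain ⟨z, rfl⟩ := (hsu s).surj y
    exact ⟨z.1, hi' s z⟩
  have hinj : Function.Injective i := fun z z' hz => by
    obtain ⟨s, hs⟩ := hsmall z
    obtain ⟨t, ht⟩ := hsmall z'
    rw [hi' s ⟨z, hs⟩, hi' t ⟨z', ht⟩, Scheme.IsLocallyDirected.ι_eq_ι_iff] at hz
    obtain ⟨l, fs, ft, x, hxs, hxt⟩ := hz
    obtain ⟨w, rfl⟩ := (hsu l).surj x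
    haveI := hci s
    haveI := hci t
    rw [hpt] at hxs hxt
    have e1 := congrArg Subtype.val ((iM s).isClosedEmbedding.injective hxs)
    have e2 := congrArg Subtype.val ((iM t).isClosedEmbedding.injective hxt)
    rw [Scheme.homOfLE_apply] at e1 e2
    exact e1.symm.trans e2
  have hopen : IsOpenMap i := fun W hW => by
    have : i '' W = ⋃ s : SmallOpen h, colimit.ι F s '' (iM s '' (Subtype.val ⁻¹' W)) := by
      ext x
      simp only [Set.mem_image, Set.mem_iUnion]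
      constructor
      · rintro ⟨z, hz, rfl⟩
        obtain ⟨s, hs⟩ := hsmall z
        exact ⟨s, _, ⟨⟨z, hs⟩, hz, rfl⟩, (hi' s ⟨z, hs⟩).symm⟩
      · rintro ⟨s, _, ⟨z, hz, rfl⟩, rfl⟩
        exact ⟨z.1, hz, hi' s z⟩
    rw [this]
    refine isOpen_iUnion fun s => (colimit.ι F s).isOpenEmbedding.isOpenMap _ ?_
    haveI := hci s
    have hbij : Function.Bijective (iM s) := ⟨(iM s).isClosedEmbedding.injective, (hsu s).surj⟩
    rw [← isClosed_compl_iff, ← Set.image_compl_eq hbij]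
    exact (iM s).isClosedEmbedding.isClosedMap _ (hW.preimage continuous_subtype_val).isClosed_compl
  haveI : SurjectiveOnStalks i := by
    refine (IsZariskiLocalAtSource.iff_of_openCover (P := @SurjectiveOnStalks) 𝒰).2 fun s => ?_
    show SurjectiveOnStalks (s.1.1.ι ≫ i)
    rw [hi]
    haveI := hci s
    infer_instance
  haveI : IsPreimmersion i :=
    { toSurjectiveOnStalks := inferInstance
      isEmbedding := (Topology.IsOpenEmbedding.of_continuous_injective_isOpenMap i.continuous hinj hopen).isEmbedding }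
  haveI hclosed : IsClosedImmersion i :=
    IsClosedImmersion.of_isPreimmersion i (by rw [hsurj.range_eq]; exact isClosed_univ)
  have hker : i.ker * i.ker = ⊥ := by
    refine Scheme.IdealSheafData.ext_of_iSup_eq_top
      (fun W : {W : (colimit F).affineOpens // ∃ s, (W.1 : (colimit F).Opens) ≤ (colimit.ι F s).opensRange} => W.1)
      ?_ (fun W => ?_)
    · rw [← top_le_iff]
      intro x _
      obtain ⟨s, y, rfl⟩ := Scheme.IsLocallyDirected.ι_jointly_surjective F x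
      obtain ⟨W, hW, hxW, hWs⟩ := exists_isAffineOpen_mem_and_subset (X := colimit F) (x := colimit.ι F s y)
        (U := (colimit.ι F s).opensRange) ⟨y, rfl⟩
      exact Opens.mem_iSup.2 ⟨⟨⟨W, hW⟩, s, hWs⟩, hxW⟩
    · obtain ⟨⟨W, hW⟩, s, hWs⟩ := W
      rw [Scheme.IdealSheafData.ideal_mul, Pi.mul_apply, Scheme.IdealSheafData.ideal_bot, Pi.bot_apply,
        Scheme.Hom.ker_apply, eq_bot_iff, Ideal.mul_le]
      intro x hx y hy
      have hWaff : IsAffineOpen (colimit.ι F s ⁻¹ᵁ W) := hW.preimage_of_isOpenImmersion (colimit.ι F s) hWs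
      have key : ∀ x : Γ(colimit F, W), i.app W x = 0 →
          (colimit.ι F s).app W x ∈ (iM s).ker.ideal ⟨colimit.ι F s ⁻¹ᵁ W, hWaff⟩ := by
        intro x hx
        haveI := hci s
        rw [Scheme.Hom.ker_apply, RingHom.mem_ker]
        show ((colimit.ι F s).app W ≫ (iM s).app _) x = 0
        rw [← Scheme.Hom.comp_app, Scheme.Hom.congr_app (hi s).symm W]
        simp [hx]
      haveI := hci s
      have h2 : (iM s).ker.ideal ⟨colimit.ι F s ⁻¹ᵁ W, hWaff⟩ * (iM s).ker.ideal ⟨colimit.ι F s ⁻¹ᵁ W, hWaff⟩ = ⊥ := by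
        have := congr_arg (fun I : (M s).IdealSheafData => I.ideal ⟨colimit.ι F s ⁻¹ᵁ W, hWaff⟩) (hu s).1.2
        rwa [Scheme.IdealSheafData.ideal_mul, Pi.mul_apply, Scheme.IdealSheafData.ideal_bot, Pi.bot_apply] at this
      have h0 : (colimit.ι F s).app W (x * y) = 0 := by
        rw [map_mul, ← Ideal.mem_bot, ← h2]
        exact Ideal.mul_mem_mul (key x hx) (key y hy)
      haveI : IsIso ((colimit.ι F s).app W) := (colimit.ι F s).isIso_app W hWs
      exact (Ideal.mem_bot).2 ((ConcreteCategory.bijective_of_isIso ((colimit.ι F s).app W)).1 (h0.trans (map_zero _).symm))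
  refine ⟨colimit F, i, h', ⟨⟨hclosed, ⟨hsurj⟩⟩, hker⟩, hih, fun T T' j b a hj hab => ?_⟩
  haveI := hj.1.1
  haveI := hj.1.2
  refine uniqueLift_of_basis i h' j b a {O | ∃ s : SmallOpen h, j ⁻¹ᵁ O ≤ a ⁻¹ᵁ s.1.1} ?_ ?_
  · rw [Opens.isBasis_iff_nbhd]
    intro O x hx
    obtain ⟨t, rfl⟩ := Surjective.surj (f := j) x
    obtain ⟨s, hs⟩ := hsmall (a t)
    refine ⟨O ⊓ imgOpen j (a ⁻¹ᵁ s.1.1), ⟨s, ?_⟩, ⟨hx, ?_⟩, inf_le_left⟩
    · intro y hy
      have : y ∈ j ⁻¹ᵁ imgOpen j (a ⁻¹ᵁ s.1.1) := hy.2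
      rwa [preimage_imgOpen] at this
    · show t ∈ j ⁻¹ᵁ imgOpen j (a ⁻¹ᵁ s.1.1)
      rw [preimage_imgOpen]
      exact hs
  · rintro O ⟨s, hs⟩
    let a₀ := IsOpenImmersion.lift s.1.1.ι ((j ⁻¹ᵁ O).ι ≫ a) (by
      rintro _ ⟨y, rfl⟩
      rw [Scheme.Opens.range_ι, Scheme.Hom.comp_apply]
      exact hs y.2)
    have ha₀ : a₀ ≫ s.1.1.ι = (j ⁻¹ᵁ O).ι ≫ a := IsOpenImmersion.lift_fac _ _ _
    obtain ⟨c, ⟨hc1, hc2⟩, hcu⟩ := (hu s).2.2 _ _ (j ∣_ O) (O.ι ≫ b) a₀ (fo_restrict hj O) (by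
      rw [← Category.assoc, morphismRestrict_ι, Category.assoc, hab, reassoc_of% ha₀])
    refine ⟨c ≫ colimit.ι F s, ⟨?_, ?_⟩, fun d hd => ?_⟩
    · rw [← Category.assoc, hc1, Category.assoc, ← hi, reassoc_of% ha₀, Category.assoc]
    · rw [Category.assoc, hh', hc2]
    · have hr : Set.range d ⊆ Set.range (colimit.ι F s) := by
        rintro _ ⟨y, rfl⟩
        haveI : Surjective (j ∣_ O) := (fo_restrict hj O).1.2
        obtain ⟨y', rfl⟩ := Surjective.surj (f := j ∣_ O) y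
        refine ⟨iM s (a₀ y'), ?_⟩
        rw [← Scheme.Hom.comp_apply, ← Scheme.Hom.comp_apply, ← Scheme.Hom.comp_apply]
        congr 2
        rw [hd.1, ← hi, reassoc_of% ha₀, Category.assoc]
      rw [← IsOpenImmersion.lift_fac (colimit.ι F s) d hr]
      congr 1
      refine hcu _ ⟨?_, ?_⟩
      · rw [← cancel_mono (colimit.ι F s), Category.assoc, IsOpenImmersion.lift_fac, hd.1]
        simp only [Category.assoc]
        rw [← hi, reassoc_of% ha₀]
      · rw [← hd.2, ← hh', ← Category.assoc, IsOpenImmersion.lift_fac]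

end UnivThickLib
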