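import Groth.Agent.UnivThickLib.Local
import Groth.Agent.S3861
import Mathlib.AlgebraicGeometry.IdealSheaf.Functorial

/-!
# Base change and composition for universal thickenings; neighbourhoods of immersions
-/

set_option autoImplicit false
set_option linter.style.haveILetI false
universe u

noncomputable section

open CategoryTheory Limits AlgebraicGeometry

namespace UnivThickLib

theorem fo_of_isPullback {R P W W' : Scheme.{u}} {q : R ⟶ P} {f' : R ⟶ W} {p : P ⟶ W'} {j : W ⟶ W'}
    (sq : IsPullback q f' p j) (hj : MoreMor.IsFirstOrderThickening j) : MoreMor.IsFirstOrderThickening q := by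
  obtain ⟨⟨hci, hs⟩, hker⟩ := hj
  haveI := hci
  refine ⟨⟨MorphismProperty.of_isPullback sq.flip hci, MorphismProperty.of_isPullback sq.flip hs⟩, ?_⟩
  have h : q.ker = j.ker.comap p := by
    rw [← sq.isoPullback_hom_fst, Scheme.Hom.ker_comp_of_isIso, Scheme.IdealSheafData.ker_fst_of_isClosedImmersion]
  rw [h, ← Groth.Agent.S3861.result, hker, Scheme.IdealSheafData.comap_bot]

/-- A closed immersion between a thickening and its target is a thickening. -/
theorem fo_of_comp {Z P Z' : Scheme.{u}} {q : Z ⟶ P} {p : P ⟶ Z'} [IsClosedImmersion p]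
    (h : MoreMor.IsFirstOrderThickening (q ≫ p)) : MoreMor.IsFirstOrderThickening q := by
  refine fo_of_isPullback (f' := 𝟙 Z) ⟨⟨(Category.id_comp _).symm⟩, ⟨PullbackCone.IsLimit.mk _
    (fun s => s.snd) (fun s => ?_) (fun s => Category.comp_id _) (fun s m _ h2 => ?_)⟩⟩ h
  · rw [← cancel_mono p, Category.assoc, s.condition]
  · simpa using h2

theorem univ_baseChange {Z X W Y W' : Scheme.{u}} (h : Z ⟶ X) (f : Z ⟶ W) (g : X ⟶ Y) (h' : W ⟶ Y)
    (hc : IsPullback h f g h') (j : W ⟶ W') (k : W' ⟶ Y) (hu : OmegaSh.IsUnivThickening h' j k) :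
    OmegaSh.IsUnivThickening h (pullback.lift h (f ≫ j) (hc.w.trans (congrArg (f ≫ ·) hu.2.1).symm))
      (pullback.fst g k) := by
  obtain ⟨hfo, hjk, huniv⟩ := hu
  have sq : IsPullback (pullback.lift h (f ≫ j) (hc.w.trans (congrArg (f ≫ ·) hjk).symm)) f (pullback.snd g k) j := by
    refine IsPullback.of_right (h₁₂ := pullback.fst g k) (h₂₂ := k) ?_ (pullback.lift_snd _ _ _)
      (IsPullback.of_hasPullback g k)
    rw [pullback.lift_fst, hjk]
    exact hc
  refine ⟨fo_of_isPullback sq hfo, pullback.lift_fst _ _ _, fun T T' jT b a hT hab => ?_⟩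
  obtain ⟨c, ⟨hc1, hc2⟩, hcu⟩ := huniv T T' jT (b ≫ g) (a ≫ f) hT (by
    rw [← Category.assoc, hab, Category.assoc, hc.w, Category.assoc])
  refine ⟨pullback.lift b c hc2.symm, ⟨?_, pullback.lift_fst _ _ _⟩, fun d hd => ?_⟩
  · apply pullback.hom_ext
    · rw [Category.assoc, pullback.lift_fst, hab, Category.assoc, pullback.lift_fst]
    · rw [Category.assoc, pullback.lift_snd, hc1, Category.assoc, Category.assoc, pullback.lift_snd]
  · apply pullback.hom_ext
    · rw [pullback.lift_fst, hd.2]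
    · rw [pullback.lift_snd]
      refine hcu _ ⟨?_, ?_⟩
      · rw [reassoc_of% hd.1, pullback.lift_snd, Category.assoc]
      · rw [Category.assoc, ← pullback.condition, reassoc_of% hd.2]

theorem univ_comp {Z Y X Z' Y' : Scheme.{u}} (a : Z ⟶ Y) (b : Y ⟶ X) (i : Z ⟶ Z') (c : Z' ⟶ X)
    (hZ : OmegaSh.IsUnivThickening (a ≫ b) i c) (j : Y ⟶ Y') (d : Y' ⟶ X) (hY : OmegaSh.IsUnivThickening b j d) :
    ∃ (m : Z' ⟶ Y') (hm : i ≫ m = a ≫ j), m ≫ d = c ∧
      OmegaSh.IsUnivThickening a (pullback.lift a i hm.symm) (pullback.fst j m) := by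
  obtain ⟨m, ⟨hm, hmd⟩, -⟩ := hY.2.2 _ _ i c a hZ.1 hZ.2.1
  refine ⟨m, hm, hmd, ?_, pullback.lift_fst _ _ _, fun T T' jT bT aT hT hab => ?_⟩
  · haveI := hY.1.1.1
    haveI : IsClosedImmersion (pullback.snd j m) := MorphismProperty.pullback_snd _ _ inferInstance
    refine fo_of_comp (p := pullback.snd j m) ?_
    rw [pullback.lift_snd]
    exact hZ.1
  · obtain ⟨c', ⟨hc1, hc2⟩, hcu⟩ := hZ.2.2 T T' jT (bT ≫ b) aT hT (by rw [reassoc_of% hab])
    have heq : bT ≫ j = c' ≫ m := by
      refine (hY.2.2 T T' jT (bT ≫ b) (aT ≫ a) hT (by rw [reassoc_of% hab, Category.assoc])).unique ⟨?_, ?_⟩ ⟨?_, ?_⟩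
      · rw [reassoc_of% hab, Category.assoc]
      · rw [Category.assoc, hY.2.1]
      · rw [reassoc_of% hc1, hm, Category.assoc]
      · rw [Category.assoc, hmd, hc2]
    refine ⟨pullback.lift bT c' heq, ⟨?_, pullback.lift_fst _ _ _⟩, fun e he => ?_⟩
    · apply pullback.hom_ext
      · rw [Category.assoc, pullback.lift_fst, hab, Category.assoc, pullback.lift_fst]
      · rw [Category.assoc, pullback.lift_snd, hc1, Category.assoc, pullback.lift_snd]
    · apply pullback.hom_ext
      · rw [pullback.lift_fst, he.2]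
      · rw [pullback.lift_snd]
        refine hcu _ ⟨?_, ?_⟩
        · rw [reassoc_of% he.1, pullback.lift_snd]
        · have h1 : pullback.snd j m ≫ c = pullback.fst j m ≫ b := by
            rw [← hmd, ← pullback.condition_assoc, hY.2.1]
          rw [Category.assoc, h1, reassoc_of% he.2]

theorem univ_firstOrderNbhd {X : Scheme.{u}} (U : X.Opens) (I : (U : Scheme.{u}).IdealSheafData) (h : I ^ 2 ≤ I) :
    OmegaSh.IsUnivThickening (I.subschemeι ≫ U.ι) (Scheme.IdealSheafData.inclusion h)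
      ((I ^ 2).subschemeι ≫ U.ι) := by
  have hsup : Set.range (I ^ 2).subschemeι ⊆ Set.range I.subschemeι := by
    rw [Scheme.IdealSheafData.range_subschemeι, Scheme.IdealSheafData.range_subschemeι]
    simp
  have hsq : IsPullback (Scheme.IdealSheafData.inclusion h) (𝟙 _) (I ^ 2).subschemeι I.subschemeι :=
    ⟨⟨(Scheme.IdealSheafData.inclusion_subschemeι h).trans (Category.id_comp _).symm⟩, ⟨PullbackCone.IsLimit.mk _
      (fun s => s.snd)
      (fun s => by rw [← cancel_mono (I ^ 2).subschemeι, Category.assoc, Scheme.IdealSheafData.inclusion_subschemeι, s.condition])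
      (fun s => Category.comp_id _) (fun s m _ h2 => by simpa using h2)⟩⟩
  haveI : IsClosedImmersion (Scheme.IdealSheafData.inclusion h) :=
    MorphismProperty.of_isPullback hsq.flip inferInstance
  have hsurj : Surjective (Scheme.IdealSheafData.inclusion h) := ⟨fun y => by
    obtain ⟨z, hz⟩ := hsup ⟨y, rfl⟩
    refine ⟨z, (I ^ 2).subschemeι.isEmbedding.injective ?_⟩
    rw [← Scheme.Hom.comp_apply, Scheme.IdealSheafData.inclusion_subschemeι, hz]⟩
  have hker : (Scheme.IdealSheafData.inclusion h).ker = I.comap (I ^ 2).subschemeι := by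
    rw [← hsq.isoPullback_hom_fst, Scheme.Hom.ker_comp_of_isIso, Scheme.IdealSheafData.ker_fst_of_isClosedImmersion,
      Scheme.IdealSheafData.ker_subschemeι]
  have hself : (I ^ 2).comap (I ^ 2).subschemeι = ⊥ := by
    conv_lhs => arg 1; rw [← Scheme.IdealSheafData.ker_subschemeι (I ^ 2)]
    rw [← Scheme.IdealSheafData.ker_fst_of_isClosedImmersion, Scheme.Hom.ker_eq_bot_of_isIso]
  refine ⟨⟨⟨inferInstance, hsurj⟩, ?_⟩, by rw [← Category.assoc, Scheme.IdealSheafData.inclusion_subschemeι],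
    fun T T' j b a hj hab => ?_⟩
  · rw [hker, ← Groth.Agent.S3861.result, ← pow_two, hself]
  · haveI := hj.1.1
    haveI := hj.1.2
    have hr : Set.range b ⊆ Set.range U.ι := by
      rintro _ ⟨y, rfl⟩
      obtain ⟨t, rfl⟩ := Surjective.surj (f := j) y
      refine ⟨I.subschemeι (a t), ?_⟩
      rw [← Scheme.Hom.comp_apply, ← Scheme.Hom.comp_apply, ← Scheme.Hom.comp_apply, hab]
    let b₀ := IsOpenImmersion.lift U.ι b hr
    have hb₀ : b₀ ≫ U.ι = b := IsOpenImmersion.lift_fac _ _ _
    have hab₀ : j ≫ b₀ = a ≫ I.subschemeι := by rw [← cancel_mono U.ι, Category.assoc, hb₀, hab, Category.assoc]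
    have h1 : I ≤ j.ker.map b₀ := by
      rw [← Scheme.Hom.ker_comp, hab₀]
      exact I.ker_subschemeι.symm.le.trans (Scheme.Hom.le_ker_comp _ _)
    have h2 : (I ^ 2).subschemeι.ker ≤ b₀.ker := by
      rw [Scheme.IdealSheafData.ker_subschemeι, ← Scheme.IdealSheafData.map_bot,
        Scheme.IdealSheafData.le_map_iff_comap_le, pow_two, Groth.Agent.S3861.result, ← hj.2]
      rw [Scheme.IdealSheafData.le_map_iff_comap_le] at h1
      intro V
      simp only [Scheme.IdealSheafData.ideal_mul, Pi.mul_apply]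
      exact Ideal.mul_mono (h1 V) (h1 V)
    refine ⟨IsClosedImmersion.lift (I ^ 2).subschemeι b₀ h2, ⟨?_, ?_⟩, fun e he => ?_⟩
    · rw [← cancel_mono (I ^ 2).subschemeι, Category.assoc, IsClosedImmersion.lift_fac, hab₀, Category.assoc,
        Scheme.IdealSheafData.inclusion_subschemeι]
    · rw [← Category.assoc, IsClosedImmersion.lift_fac, hb₀]
    · rw [← cancel_mono (I ^ 2).subschemeι, IsClosedImmersion.lift_fac, ← cancel_mono U.ι, hb₀, Category.assoc, he.2]

end UnivThickLib
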