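import Groth.Agent.UnivThickLib.Local
import Groth.Agent.S1487
import Groth.Agent.S9732
import Groth.Agent.Unram17Lib.ConormalZero

/-!
# Formally étale morphisms and universal thickenings
-/

set_option autoImplicit false
set_option linter.style.haveILetI false
universe u

noncomputable section

open CategoryTheory Limits AlgebraicGeometry TensorProduct

namespace UnivThickLib

theorem formallyUnramified_of_fe {X S : Scheme.{u}} (f : X ⟶ S) (hf : MoreMor.IsFormallyEtaleHom f) :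
    FormallyUnramified f := by
  rw [HasRingHomProperty.iff_appLE (P := @FormallyUnramified)]
  intro U V e
  have h := (Groth.Agent.S1487.result f).1 hf V.1 U.1 V.2 U.2 e
  letI := (f.appLE U.1 V.1 e).hom.toAlgebra
  exact inferInstanceAs (Algebra.FormallyUnramified Γ(S, U.1) Γ(X, V.1))

theorem fo_id (X : Scheme.{u}) : MoreMor.IsFirstOrderThickening (𝟙 X) := by
  refine ⟨⟨inferInstance, inferInstance⟩, ?_⟩
  rw [Scheme.Hom.ker_eq_bot_of_isIso]
  exact le_bot_iff.1 fun U => by simp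

theorem univ_id_of_fe {X S : Scheme.{u}} (f : X ⟶ S) (hf : MoreMor.IsFormallyEtaleHom f) :
    OmegaSh.IsUnivThickening f (𝟙 X) f := by
  refine ⟨fo_id X, Category.id_comp f, fun T T' j b a hj hab => uniqueLift_of_spec (𝟙 X) f f ?_ j b a hj hab⟩
  intro A _ I hI b a hab
  obtain ⟨l, hl, hlu⟩ := hf A I hI a b hab
  exact ⟨l, ⟨hl.1.trans (Category.comp_id a).symm, hl.2⟩, fun c hc => hlu c ⟨hc.1.trans (Category.comp_id a), hc.2⟩⟩

theorem ker_eq_bot_of_isZero_conormal {X X' : Scheme.{u}} {i : X ⟶ X'} (hi : MoreMor.IsFirstOrderThickening i)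
    (hz : IsZero (Omega.conormal i)) : i.ker = ⊥ := by
  haveI := hi.1.1
  refine le_bot_iff.1 fun W => ?_
  have hW : IsAffineOpen W.1 := W.2
  have hV : IsAffineOpen (i ⁻¹ᵁ W.1) := hW.preimage i
  let φ := i.app W.1
  have hφ : Function.Surjective φ := i.app_surjective W.1 hW
  have hcomm : hV.fromSpec ≫ i = Spec.map φ ≫ hW.fromSpec := by
    rw [show Spec.map φ = Spec.map (i.appLE W.1 (i ⁻¹ᵁ W.1) le_rfl) by rw [Scheme.Hom.appLE_eq_app],
      IsAffineOpen.SpecMap_appLE_fromSpec]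
  have hrange : ∀ x, i x ∈ Set.range hW.fromSpec → x ∈ Set.range hV.fromSpec := fun x hx => by
    rw [hV.range_fromSpec]
    rw [hW.range_fromSpec] at hx
    exact hx
  obtain ⟨ec⟩ := CohCmpLib.ConormalChart.nonempty_conormal_chart hW.fromSpec φ i hV.fromSpec hcomm hrange
  have hT := IsZero.of_iso ((Scheme.Modules.pullback hV.fromSpec).map_isZero hz) ec.symm
  let M := (ModuleCat.extendScalars φ.hom).obj (SweepSix.ConormalSpec.kerMod φ)
  have hΓ : Subsingleton Γ(tilde M, ⊤) := subsingleton_of_forall_eq 0 fun n =>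
    congr($(congrArg (fun t => Scheme.Modules.Hom.app t (⊤ : (Spec Γ(X, i ⁻¹ᵁ W.1)).Opens)) ((IsZero.iff_id_eq_zero _).1 hT)) n)
  haveI : Subsingleton M :=
    haveI : Subsingleton ((modulesSpecToSheaf.obj (tilde M)).presheaf.obj (Opposite.op ⊤)) := hΓ
    (tilde.isoTop M).toLinearEquiv.toEquiv.subsingleton
  rw [Scheme.IdealSheafData.ideal_bot, Pi.bot_apply, Scheme.Hom.ker_apply]
  intro x hx
  rw [Ideal.mem_bot]
  letI := φ.hom.toAlgebra
  let K : Ideal Γ(X', W.1) := RingHom.ker (algebraMap Γ(X', W.1) Γ(X, i ⁻¹ᵁ W.1))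
  let eA : (Γ(X', W.1) ⧸ K) ≃ₐ[Γ(X', W.1)] Γ(X, i ⁻¹ᵁ W.1) :=
    Ideal.quotientKerAlgEquivOfSurjective (f := Algebra.ofId Γ(X', W.1) Γ(X, i ⁻¹ᵁ W.1)) hφ
  let Φ : Γ(X, i ⁻¹ᵁ W.1) ⊗[Γ(X', W.1)] K ≃ₗ[Γ(X', W.1)] K ⧸ (K • (⊤ : Submodule Γ(X', W.1) K)) :=
    (TensorProduct.congr eA.symm.toLinearEquiv (LinearEquiv.refl _ K)) ≪≫ₗ quotTensorEquivQuotSMul K K
  have h2 : Φ ((1 : Γ(X, i ⁻¹ᵁ W.1)) ⊗ₜ[Γ(X', W.1)] ⟨x, hx⟩) = Submodule.Quotient.mk ⟨x, hx⟩ := by
    simp only [Φ, LinearEquiv.trans_apply, TensorProduct.congr_tmul, AlgEquiv.toLinearEquiv_apply, map_one,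
      LinearEquiv.refl_apply]
    exact quotTensorEquivQuotSMul_mk_tmul K 1 _ |>.trans (by rw [one_smul])
  have hsub : Subsingleton (Γ(X, i ⁻¹ᵁ W.1) ⊗[Γ(X', W.1)] K) :=
    inferInstanceAs (Subsingleton ((ModuleCat.extendScalars φ.hom).obj (SweepSix.ConormalSpec.kerMod φ)))
  rw [Subsingleton.elim ((1 : Γ(X, i ⁻¹ᵁ W.1)) ⊗ₜ[Γ(X', W.1)] (⟨x, hx⟩ : K)) 0, map_zero, eq_comm,
    Submodule.Quotient.mk_eq_zero] at h2
  have h3 := Submodule.mem_map_of_mem (f := K.subtype) h2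
  rw [Submodule.map_smul'', Submodule.map_top, Submodule.range_subtype, smul_eq_mul] at h3
  have hk := congr_arg (fun J : X'.IdealSheafData => J.ideal W) hi.2
  rw [Scheme.IdealSheafData.ideal_mul, Pi.mul_apply, Scheme.IdealSheafData.ideal_bot, Pi.bot_apply,
    Scheme.Hom.ker_apply] at hk
  rw [← Ideal.mem_bot, ← hk]
  exact h3

theorem isZero_conormal_of_isIso {X X' : Scheme.{u}} (i : X ⟶ X') [IsIso i] : IsZero (Omega.conormal i) := by
  refine (Scheme.Modules.pullback i).map_isZero ?_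
  haveI : IsIso i.ker.subschemeι := by
    rw [IsClosedImmersion.isIso_iff_ker_eq_bot, Scheme.IdealSheafData.ker_subschemeι, Scheme.Hom.ker_eq_bot_of_isIso]
  rw [IsZero.iff_id_eq_zero]
  refine Scheme.Modules.hom_ext _ _ fun U => ?_
  ext n
  refine OmegaSh.idealModι_app_injective U i.ker ?_
  refine ((ConcreteCategory.bijective_of_isIso (i.ker.subschemeι.app U)).1 ?_).trans (map_zero _).symm
  have h := congr($(congrArg (fun t => Scheme.Modules.Hom.app t U) (kernel.condition (ClSub.toSubscheme i.ker))) n)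
  exact h.trans (map_zero (i.ker.subschemeι.app U).hom).symm

theorem fe_iff {X S : Scheme.{u}} (f : X ⟶ S) :
    (MoreMor.IsFormallyEtaleHom f ↔ FormallyUnramified f ∧ OmegaSh.IsUnivThickening f (𝟙 X) f) ∧
    (∀ {X' : Scheme.{u}} (i : X ⟶ X') (h' : X' ⟶ S) [QuasiCompact i], FormallyUnramified f →
      OmegaSh.IsUnivThickening f i h' → (MoreMor.IsFormallyEtaleHom f ↔ IsZero (Omega.conormal i))) := by
  have hfe : OmegaSh.IsUnivThickening f (𝟙 X) f → MoreMor.IsFormallyEtaleHom f := by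
    intro hu A _ I hI a b hab
    have hfo : MoreMor.IsFirstOrderThickening (Spec.map (CommRingCat.ofHom (Ideal.Quotient.mk I))) :=
      Groth.Agent.S9732.fo_spec I hI
    obtain ⟨l, hl, hlu⟩ := hu.2.2 _ _ _ b a hfo hab
    exact ⟨l, ⟨hl.1.trans (Category.comp_id a), hl.2⟩, fun c hc => hlu c ⟨hc.1.trans (Category.comp_id a).symm, hc.2⟩⟩
  refine ⟨⟨fun h => ⟨formallyUnramified_of_fe f h, univ_id_of_fe f h⟩, fun h => hfe h.2⟩, ?_⟩
  intro X' i h' _ _ hu
  refine ⟨fun h => ?_, fun hz => ?_⟩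
  · have hu' := univ_id_of_fe f h
    obtain ⟨r, ⟨hr1, hr2⟩, -⟩ := hu'.2.2 X X' i h' (𝟙 X) hu.1 (by rw [hu.2.1, Category.id_comp])
    haveI : IsIso i := by
      refine ⟨r, hr1.trans (Category.comp_id _), ?_⟩
      refine (hu.2.2 X X' i h' (𝟙 X) hu.1 (by rw [hu.2.1, Category.id_comp])).unique ⟨?_, ?_⟩
        ⟨(Category.comp_id i).trans (Category.id_comp i).symm, Category.id_comp h'⟩
      · rw [reassoc_of% hr1]; simp
      · rw [Category.assoc, hu.2.1, hr2]
    exact isZero_conormal_of_isIso i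
  · haveI := hu.1.1.1
    haveI : IsIso i := IsClosedImmersion.isIso_iff_ker_eq_bot.2 (ker_eq_bot_of_isZero_conormal hu.1 hz)
    refine hfe ⟨fo_id X, Category.id_comp f, fun T T' j b a hj hab => ?_⟩
    obtain ⟨c, ⟨hc1, hc2⟩, hcu⟩ := hu.2.2 T T' j b a hj hab
    refine ⟨c ≫ inv i, ⟨?_, ?_⟩, fun d hd => ?_⟩
    · rw [reassoc_of% hc1, IsIso.hom_inv_id]
    · rw [Category.assoc, ← hc2]
      congr 1
      rw [IsIso.inv_comp_eq, hu.2.1]
    · rw [IsIso.eq_comp_inv]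
      refine hcu _ ⟨?_, ?_⟩
      · rw [reassoc_of% hd.1]
      · rw [Category.assoc, hu.2.1, hd.2]

end UnivThickLib
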