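import Groth.Prelude.Def_Omega3
import Mathlib.AlgebraicGeometry.IdealSheaf.Basic
import Mathlib.AlgebraicGeometry.Cover.Directed
import Mathlib.AlgebraicGeometry.Morphisms.ClosedImmersion

/-!
# First order thickenings: restriction to opens and locality of the lifting problem
-/

set_option autoImplicit false
set_option linter.style.haveILetI false
universe u

noncomputable section

open CategoryTheory Limits AlgebraicGeometry TopologicalSpace

namespace UnivThickLib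

variable {T T' : Scheme.{u}}

theorem fo_restrict {j : T ⟶ T'} (hj : MoreMor.IsFirstOrderThickening j) (O : T'.Opens) :
    MoreMor.IsFirstOrderThickening (j ∣_ O) := by
  obtain ⟨⟨hci, hsurj⟩, hker⟩ := hj
  haveI := hci
  refine ⟨⟨IsZariskiLocalAtTarget.restrict hci O, IsZariskiLocalAtTarget.restrict hsurj O⟩, ?_⟩
  refine Scheme.IdealSheafData.ext (funext fun W => ?_)
  rw [Scheme.IdealSheafData.ideal_mul, Pi.mul_apply, Scheme.ker_morphismRestrict_ideal]
  exact congr_arg (fun I : T'.IdealSheafData => I.ideal ⟨O.ι ''ᵁ W, W.2.image_of_isOpenImmersion _⟩) hker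

variable {Z X Z' : Scheme.{u}}

/-- The lifting problem attached to a candidate universal thickening and a test object. -/
def UniqueLift (i : Z ⟶ Z') (h' : Z' ⟶ X) (j : T ⟶ T') (b : T' ⟶ X) (a : T ⟶ Z) : Prop :=
  ∃! a' : T' ⟶ Z', j ≫ a' = a ≫ i ∧ a' ≫ h' = b

theorem sol_restrict {i : Z ⟶ Z'} {h' : Z' ⟶ X} {j : T ⟶ T'} {b : T' ⟶ X} {a : T ⟶ Z} {a' : T' ⟶ Z'}
    (h : j ≫ a' = a ≫ i ∧ a' ≫ h' = b) (O : T'.Opens) :
    (j ∣_ O) ≫ (O.ι ≫ a') = ((j ⁻¹ᵁ O).ι ≫ a) ≫ i ∧ (O.ι ≫ a') ≫ h' = O.ι ≫ b := by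
  refine ⟨?_, by rw [Category.assoc, h.2]⟩
  rw [← Category.assoc, morphismRestrict_ι, Category.assoc, h.1, Category.assoc]

/-- The lifting problem is local on the test object. -/
theorem uniqueLift_of_basis (i : Z ⟶ Z') (h' : Z' ⟶ X) (j : T ⟶ T') (b : T' ⟶ X) (a : T ⟶ Z)
    (B : Set T'.Opens) (hB : Opens.IsBasis B)
    (hloc : ∀ O ∈ B, UniqueLift i h' (j ∣_ O) (O.ι ≫ b) ((j ⁻¹ᵁ O).ι ≫ a)) : UniqueLift i h' j b a := by
  let 𝒰 : T'.OpenCover :=
    { I₀ := B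
      X := fun O => O.1
      f := fun O => O.1.ι
      mem₀ := by
        rw [Scheme.presieve₀_mem_precoverage_iff]
        refine ⟨fun x => ?_, fun O => inferInstance⟩
        obtain ⟨O, hO, hx, -⟩ := Opens.isBasis_iff_nbhd.mp hB (show x ∈ (⊤ : T'.Opens) from trivial)
        exact ⟨⟨O, hO⟩, ⟨x, hx⟩, rfl⟩ }
  letI : Preorder 𝒰.I₀ := inferInstanceAs (Preorder B)
  letI : 𝒰.LocallyDirected := Scheme.Cover.LocallyDirected.ofIsBasisOpensRange
    (fun {O O'} => by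
      show O.1 ≤ O'.1 ↔ O.1.ι.opensRange ≤ O'.1.ι.opensRange
      rw [Scheme.Opens.opensRange_ι, Scheme.Opens.opensRange_ι])
    (by
      convert hB using 1
      ext O
      constructor
      · rintro ⟨O', rfl⟩
        show (O'.1.ι).opensRange ∈ B
        rw [Scheme.Opens.opensRange_ι]; exact O'.2
      · intro hO
        exact ⟨⟨O, hO⟩, Scheme.Opens.opensRange_ι _⟩)
  choose g hg hgu using fun O : 𝒰.I₀ => hloc O.1 O.2
  have hcompat : ∀ {O O' : 𝒰.I₀} (f : O ⟶ O'), 𝒰.trans f ≫ g O' = g O := by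
    intro O O' f
    refine hgu O _ ⟨?_, ?_⟩
    · have ht : 𝒰.trans f ≫ O'.1.ι = O.1.ι := Scheme.Cover.trans_map 𝒰 f
      have hle : j ⁻¹ᵁ O.1 ≤ j ⁻¹ᵁ O'.1 := j.preimage_mono (leOfHom f)
      have h1 : (j ∣_ O.1) ≫ 𝒰.trans f = T.homOfLE hle ≫ (j ∣_ O'.1) := by
        rw [← cancel_mono O'.1.ι]
        refine (Category.assoc _ _ _).trans ((congrArg (_ ≫ ·) ht).trans ?_)
        rw [morphismRestrict_ι, Category.assoc, morphismRestrict_ι, ← Category.assoc, Scheme.homOfLE_ι]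
      refine (Category.assoc _ _ _).symm.trans ((congrArg (· ≫ g O') h1).trans ((Category.assoc _ _ _).trans ?_))
      rw [(hg O').1, ← Category.assoc, ← Category.assoc, Scheme.homOfLE_ι]
    · have ht : 𝒰.trans f ≫ O'.1.ι = O.1.ι := Scheme.Cover.trans_map 𝒰 f
      exact (Category.assoc _ _ _).trans ((congrArg (_ ≫ ·) (hg O').2).trans
        ((Category.assoc _ _ _).symm.trans (congrArg (· ≫ b) ht)))
  have hι : ∀ O : 𝒰.I₀, O.1.ι ≫ 𝒰.glueMorphismsOfLocallyDirected g hcompat = g O :=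
    fun O => 𝒰.map_glueMorphismsOfLocallyDirected g hcompat O
  refine ⟨𝒰.glueMorphismsOfLocallyDirected g hcompat, ⟨?_, ?_⟩, fun a' ha' => ?_⟩
  · refine Scheme.hom_ext_of_forall _ _ fun x => ?_
    obtain ⟨O, hO, hx, -⟩ := Opens.isBasis_iff_nbhd.mp hB (show j x ∈ (⊤ : T'.Opens) from trivial)
    refine ⟨j ⁻¹ᵁ O, hx, ?_⟩
    rw [← Category.assoc, ← morphismRestrict_ι, Category.assoc, hι ⟨O, hO⟩, (hg ⟨O, hO⟩).1, Category.assoc]
  · refine 𝒰.hom_ext _ _ fun O => ?_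
    exact (Category.assoc _ _ _).symm.trans ((congrArg (· ≫ h') (hι O)).trans (hg O).2)
  · refine 𝒰.hom_ext _ _ fun O => ?_
    exact (hgu O _ (sol_restrict ha' O.1)).trans (hι O).symm

theorem uniqueLift_of_iso {T₁ : Scheme.{u}} (e : T₁ ≅ T) (i : Z ⟶ Z') (h' : Z' ⟶ X) (j : T ⟶ T') (b : T' ⟶ X)
    (a : T ⟶ Z) (h : UniqueLift i h' (e.hom ≫ j) b (e.hom ≫ a)) : UniqueLift i h' j b a := by
  obtain ⟨a', ⟨h1, h2⟩, hu⟩ := h
  refine ⟨a', ⟨?_, h2⟩, fun c hc => hu c ⟨?_, hc.2⟩⟩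
  · rw [← cancel_epi e.hom]
    simpa only [Category.assoc] using h1
  · simp only [Category.assoc, hc.1]

/-- Affine test objects suffice. -/
theorem uniqueLift_of_spec (i : Z ⟶ Z') (h' : Z' ⟶ X) (h : Z ⟶ X)
    (H : ∀ (A : Type u) [CommRing A] (I : Ideal A), I ^ 2 = ⊥ →
      ∀ (b : Spec (CommRingCat.of A) ⟶ X) (a : Spec (CommRingCat.of (A ⧸ I)) ⟶ Z),
        Spec.map (CommRingCat.ofHom (Ideal.Quotient.mk I)) ≫ b = a ≫ h →
          UniqueLift i h' (Spec.map (CommRingCat.ofHom (Ideal.Quotient.mk I))) b a)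
    (j : T ⟶ T') (b : T' ⟶ X) (a : T ⟶ Z) (hj : MoreMor.IsFirstOrderThickening j) (hab : j ≫ b = a ≫ h) :
    UniqueLift i h' j b a := by
  refine uniqueLift_of_basis i h' j b a _ T'.isBasis_affineOpens fun O hO => ?_
  have hO' : IsAffineOpen O := hO
  let j' := (j ∣_ O) ≫ hO'.isoSpec.hom
  obtain ⟨⟨hci, -⟩, hker⟩ := fo_restrict hj O
  haveI := hci
  haveI : IsClosedImmersion j' := inferInstance
  obtain ⟨I, e, he⟩ := IsClosedImmersion.Spec_iff.1 ‹IsClosedImmersion j'›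
  have hI : I ^ 2 = ⊥ := by
    have h1 : j'.ker * j'.ker = ⊥ := by
      refine Scheme.IdealSheafData.ext_of_isAffine ?_
      rw [Scheme.IdealSheafData.ideal_mul, Pi.mul_apply, Scheme.IdealSheafData.ideal_bot, Pi.bot_apply,
        Scheme.Hom.ker_apply, eq_bot_iff, Ideal.mul_le]
      intro x hx y hy
      have hk := congr_arg (fun J : (O : Scheme.{u}).IdealSheafData =>
        J.ideal ⟨hO'.isoSpec.hom ⁻¹ᵁ ⊤, (isAffineOpen_top _).preimage_of_isIso _⟩) hker
      rw [Scheme.IdealSheafData.ideal_mul, Pi.mul_apply, Scheme.IdealSheafData.ideal_bot, Pi.bot_apply,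
        Scheme.Hom.ker_apply, eq_bot_iff, Ideal.mul_le] at hk
      have h0 := hk (hO'.isoSpec.hom.app ⊤ x) hx (hO'.isoSpec.hom.app ⊤ y) hy
      rw [Ideal.mem_bot, ← map_mul] at h0
      exact (Ideal.mem_bot).2 ((ConcreteCategory.bijective_of_isIso (hO'.isoSpec.hom.app ⊤)).1
        (h0.trans (map_zero _).symm))
    rw [he, Scheme.Hom.ker_comp_of_isIso] at h1
    have h2 := congr_arg (fun J : (Spec Γ(T', O)).IdealSheafData => J.ideal ⟨⊤, isAffineOpen_top _⟩) h1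
    rw [Scheme.IdealSheafData.ideal_mul, Pi.mul_apply, Scheme.IdealSheafData.ideal_bot, Pi.bot_apply,
      Scheme.Hom.ker_apply] at h2
    rw [pow_two, eq_bot_iff, Ideal.mul_le]
    intro x hx y hy
    let σ := (Scheme.ΓSpecIso Γ(T', O)).inv
    have key : ∀ z ∈ I, σ z ∈ RingHom.ker ((Spec.map (CommRingCat.ofHom (Ideal.Quotient.mk I))).app ⊤).hom := by
      intro z hz
      have h := congr($(Scheme.ΓSpecIso_inv_naturality (CommRingCat.ofHom (Ideal.Quotient.mk I))) z)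
      rw [CommRingCat.comp_apply, CommRingCat.comp_apply, CommRingCat.ofHom_apply,
        Ideal.Quotient.eq_zero_iff_mem.2 hz, map_zero] at h
      exact h.symm
    have h0 : σ (x * y) = 0 := by
      rw [map_mul, ← Ideal.mem_bot, ← h2]
      exact Ideal.mul_mem_mul (key x hx) (key y hy)
    exact (Ideal.mem_bot).2 ((ConcreteCategory.bijective_of_isIso σ).1 (h0.trans (map_zero _).symm))
  have key := H Γ(T', O) I hI (hO'.fromSpec ≫ b) (e.inv ≫ (j ⁻¹ᵁ O).ι ≫ a) ?_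
  · obtain ⟨a', ⟨h1, h2⟩, hu⟩ := key
    have he' : e.inv ≫ (j ∣_ O) ≫ hO'.isoSpec.hom = Spec.map (CommRingCat.ofHom (Ideal.Quotient.mk I)) := by
      show e.inv ≫ j' = _
      rw [he, Iso.inv_hom_id_assoc]
    refine ⟨hO'.isoSpec.hom ≫ a', ⟨?_, ?_⟩, fun c hc => ?_⟩
    · rw [← cancel_epi e.inv]
      rw [← he'] at h1
      simpa only [Category.assoc] using h1
    · rw [Category.assoc, h2, ← Category.assoc, IsAffineOpen.isoSpec_hom, IsAffineOpen.toSpecΓ_fromSpec]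
    · refine Eq.trans ?_ (congrArg (hO'.isoSpec.hom ≫ ·) (hu (hO'.isoSpec.inv ≫ c) ⟨?_, ?_⟩))
      · simp
      · rw [← he']
        simp only [Category.assoc, Iso.hom_inv_id_assoc, hc.1]
      · rw [Category.assoc, hc.2, ← Category.assoc, IsAffineOpen.isoSpec_inv_ι]
  · have he' : e.inv ≫ (j ∣_ O) ≫ hO'.isoSpec.hom = Spec.map (CommRingCat.ofHom (Ideal.Quotient.mk I)) := by
      show e.inv ≫ j' = _
      rw [he, Iso.inv_hom_id_assoc]
    rw [← he']
    simp only [Category.assoc]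
    rw [← Category.assoc hO'.isoSpec.hom, IsAffineOpen.isoSpec_hom, IsAffineOpen.toSpecΓ_fromSpec,
      ← Category.assoc (j ∣_ O), morphismRestrict_ι, Category.assoc, hab]

end UnivThickLib
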