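import Groth.Agent.UnivThickLib.Local
import Groth.Agent.S9426
import Groth.Agent.S9732

/-!
# The universal thickening of an affine scheme mapping into an affine open
-/

set_option autoImplicit false
set_option linter.style.haveILetI false
universe u

noncomputable section

open CategoryTheory Limits AlgebraicGeometry TopologicalSpace

namespace UnivThickLib

theorem fo_isoComp {T T' T'' : Scheme.{u}} (e : T ≅ T') {j : T' ⟶ T''} (hj : MoreMor.IsFirstOrderThickening j) :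
    MoreMor.IsFirstOrderThickening (e.hom ≫ j) := by
  obtain ⟨⟨h1, h2⟩, h3⟩ := hj
  haveI := h1
  haveI := h2
  refine ⟨⟨inferInstance, inferInstance⟩, ?_⟩
  rwa [Scheme.Hom.ker_comp_of_isIso]

theorem fo_spec_of_surjective {A B : Type u} [CommRing A] [CommRing B] (π : A →+* B) (hπ : Function.Surjective π)
    (hk : RingHom.ker π ^ 2 = ⊥) : MoreMor.IsFirstOrderThickening (Spec.map (CommRingCat.ofHom π)) := by
  let e := RingHom.quotientKerEquivOfSurjective hπ
  have h : CommRingCat.ofHom π = CommRingCat.ofHom (Ideal.Quotient.mk (RingHom.ker π)) ≫ e.toCommRingCatIso.hom :=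
    CommRingCat.hom_ext (RingHom.ext fun a => (RingHom.quotientKerEquivOfSurjective_apply_mk hπ a).symm)
  rw [h, Spec.map_comp]
  exact fo_isoComp (asIso (Spec.map e.toCommRingCatIso.hom)) (Groth.Agent.S9732.fo_spec _ hk)

theorem exists_univ_affine {Z X : Scheme.{u}} (h : Z ⟶ X) [IsAffine Z] [FormallyUnramified h] {U : X.Opens}
    (hU : IsAffineOpen U) (hr : (⊤ : Z.Opens) ≤ h ⁻¹ᵁ U) :
    ∃ (Z' : Scheme.{u}) (i : Z ⟶ Z') (h' : Z' ⟶ X), OmegaSh.IsUnivThickening h i h' := by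
  let φ := h.appLE U ⊤ hr
  letI : Algebra Γ(X, U) Γ(Z, ⊤) := φ.hom.toAlgebra
  haveI : Algebra.FormallyUnramified Γ(X, U) Γ(Z, ⊤) :=
    HasRingHomProperty.appLE @FormallyUnramified h inferInstance ⟨U, hU⟩ ⟨⊤, isAffineOpen_top Z⟩ hr
  obtain ⟨S', _, _, π, hπs, hπk, hπu⟩ := Groth.Agent.S9426.result Γ(X, U) Γ(Z, ⊤)
  let al : CommRingCat.of Γ(X, U) ⟶ CommRingCat.of S' := CommRingCat.ofHom (algebraMap Γ(X, U) S')
  let p : CommRingCat.of S' ⟶ Γ(Z, ⊤) := CommRingCat.ofHom π.toRingHom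
  let h' : Spec (CommRingCat.of S') ⟶ X := Spec.map al ≫ hU.fromSpec
  let i : Z ⟶ Spec (CommRingCat.of S') := Z.isoSpec.hom ≫ Spec.map p
  have hap : al ≫ p = φ := CommRingCat.hom_ext (π.comp_algebraMap)
  have hφ : Spec.map φ ≫ hU.fromSpec = Z.isoSpec.inv ≫ h := by
    rw [IsAffineOpen.SpecMap_appLE_fromSpec h hU (isAffineOpen_top Z) hr, IsAffineOpen.fromSpec_top]
  have hih : i ≫ h' = h := by
    show (Z.isoSpec.hom ≫ Spec.map p) ≫ Spec.map al ≫ hU.fromSpec = h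
    rw [Category.assoc, ← Spec.map_comp_assoc, hap, hφ, Iso.hom_inv_id_assoc]
  refine ⟨_, i, h', fo_isoComp Z.isoSpec (fo_spec_of_surjective π.toRingHom hπs hπk), hih,
    fun T T' j b a hj hab => uniqueLift_of_spec i h' h (fun A _ I hI b a hab => ?_) j b a hj hab⟩
  obtain ⟨⟨-, hsurj⟩, -⟩ := Groth.Agent.S9732.fo_spec I hI
  let q : CommRingCat.of A ⟶ CommRingCat.of (A ⧸ I) := CommRingCat.ofHom (Ideal.Quotient.mk I)
  have hb : Set.range b ⊆ Set.range hU.fromSpec := by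
    rintro _ ⟨x, rfl⟩
    obtain ⟨y, rfl⟩ := hsurj.surj x
    rw [IsAffineOpen.range_fromSpec, ← Scheme.Hom.comp_apply, hab, Scheme.Hom.comp_apply]
    exact hr (Set.mem_univ (a y))
  let ψ := Spec.preimage (IsOpenImmersion.lift hU.fromSpec b hb)
  have hψ : Spec.map ψ ≫ hU.fromSpec = b := by rw [Spec.map_preimage, IsOpenImmersion.lift_fac]
  let a₀ := Spec.preimage (a ≫ Z.isoSpec.hom)
  have ha₀ : Spec.map a₀ ≫ Z.isoSpec.inv = a := by rw [Spec.map_preimage, Category.assoc, Iso.hom_inv_id, Category.comp_id]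
  have hc : ψ ≫ q = φ ≫ a₀ := by
    refine Spec.map_injective ?_
    rw [← cancel_mono hU.fromSpec, Spec.map_comp, Spec.map_comp, Category.assoc, Category.assoc, hψ, hφ,
      ← Category.assoc, ha₀]
    exact hab
  letI : Algebra Γ(X, U) A := ψ.hom.toAlgebra
  let aA : Γ(Z, ⊤) →ₐ[Γ(X, U)] A ⧸ I := { a₀.hom with
    commutes' := fun r => (congrArg (fun m : CommRingCat.of Γ(X, U) ⟶ CommRingCat.of (A ⧸ I) => m.hom r) hc).symm }
  obtain ⟨χ, hχ, hχu⟩ := hπu A I hI aA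
  have key : ∀ g : CommRingCat.of S' ⟶ CommRingCat.of A,
      (Spec.map q ≫ Spec.map g = a ≫ i ∧ Spec.map g ≫ h' = b) ↔ (g ≫ q = p ≫ a₀ ∧ al ≫ g = ψ) := by
    intro g
    refine and_congr ?_ ?_
    · rw [← ha₀, ← Spec.map_comp]
      show _ = (Spec.map a₀ ≫ Z.isoSpec.inv) ≫ Z.isoSpec.hom ≫ Spec.map p ↔ _
      rw [Category.assoc, Iso.inv_hom_id_assoc, ← Spec.map_comp, Spec.map_inj]
    · rw [← hψ]
      show Spec.map g ≫ Spec.map al ≫ hU.fromSpec = _ ↔ _
      rw [← Category.assoc, cancel_mono, ← Spec.map_comp, Spec.map_inj]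
  refine ⟨Spec.map (CommRingCat.ofHom χ.toRingHom), (key _).2 ⟨?_, ?_⟩, fun c hc' => ?_⟩
  · exact CommRingCat.hom_ext (congrArg AlgHom.toRingHom hχ)
  · exact CommRingCat.hom_ext χ.comp_algebraMap
  · obtain ⟨g, rfl⟩ := Spec.map_surjective c
    obtain ⟨g1, g2⟩ := (key g).1 hc'
    let χ' : S' →ₐ[Γ(X, U)] A := { g.hom with
      commutes' := fun r => congrArg (fun m : CommRingCat.of Γ(X, U) ⟶ CommRingCat.of A => m.hom r) g2 }
    have h1 : χ' = χ := hχu χ' (AlgHom.ext fun x => congrArg (fun m : CommRingCat.of S' ⟶ CommRingCat.of (A ⧸ I) => m.hom x) g1)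
    rw [← h1]
    rfl

end UnivThickLib
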